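import Mathlib
import Cfsg.Prelude.Def_LieRecognition

/-!
Elementary consequences of the rank-one set-up `IsRankOneSetup`: the regular normal subgroup `Q` of
a point stabiliser, the canonical form, the fixed point of an involution, fusion of involutions.
-/

set_option autoImplicit false
set_option linter.style.haveILetI false
open Cfsg MulAction

namespace Cfsg.Agent.Lib.RankOne

section Odd

variable {G : Type*} [Group G]

/-- The square root of an element of odd order inside the cyclic group it generates. -/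
noncomputable def sqrtOdd (x : G) : G := x ^ ((orderOf x + 1) / 2)

theorem sqrtOdd_mul_self {x : G} (hx : Odd (orderOf x)) : sqrtOdd x * sqrtOdd x = x := by
  obtain ⟨m, hm⟩ := hx
  have h : (orderOf x + 1) / 2 + (orderOf x + 1) / 2 = orderOf x + 1 := by omega
  rw [sqrtOdd, ← pow_add, h, pow_succ, pow_orderOf_eq_one, one_mul]

theorem sqrtOdd_mem {H : Subgroup G} {x : G} (hx : x ∈ H) : sqrtOdd x ∈ H := H.pow_mem hx _

theorem commute_sqrtOdd {x y : G} (h : Commute y x) : Commute y (sqrtOdd x) := h.pow_right _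

theorem sq_inj {x y : G} (hx : Odd (orderOf x)) (hy : Odd (orderOf y)) (h : x * x = y * y) :
    x = y := by
  obtain ⟨m, hm⟩ := hx.mul hy
  have key : ∀ z : G, orderOf z ∣ orderOf x * orderOf y → (z * z) ^ (m + 1) = z := fun z hz => by
    rw [← pow_two, ← pow_mul, show 2 * (m + 1) = orderOf x * orderOf y + 1 by omega, pow_succ,
      orderOf_dvd_iff_pow_eq_one.mp hz, one_mul]
  calc x = (x * x) ^ (m + 1) := (key x (dvd_mul_right _ _)).symm
    _ = (y * y) ^ (m + 1) := by rw [h]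
    _ = y := key y (dvd_mul_left _ _)

theorem eq_one_of_mul_self {x : G} (hx : Odd (orderOf x)) (h : x * x = 1) : x = 1 :=
  sq_inj hx (by simp) (by simpa using h)

theorem orderOf_odd_of_mem {H : Subgroup G} (hH : Odd (Nat.card H)) {x : G} (hx : x ∈ H) :
    Odd (orderOf x) := hH.of_dvd_nat (Subgroup.orderOf_dvd_natCard H hx)

/-- An involution normalises to inversion: conjugation by an involution. -/
theorem conj_eq (t : G) (ht : t * t = 1) (x : G) : t * x * t⁻¹ = t * x * t := by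
  rw [inv_eq_of_mul_eq_one_right ht]

/-- If an involution conjugates `x` to `x⁻¹`, it does the same to the square root of `x`. -/
theorem sqrtOdd_inverted {t x : G} (h : t * x * t⁻¹ = x⁻¹) :
    t * sqrtOdd x * t⁻¹ = (sqrtOdd x)⁻¹ := by
  rw [sqrtOdd, ← conj_pow, h, inv_pow]

/-- An element of odd order commuting with the square of an element of odd order commutes with it. -/
theorem commute_of_commute_sq {x y : G} (hx : Odd (orderOf x)) (h : Commute y (x * x)) :
    Commute y x := by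
  obtain ⟨m, hm⟩ := hx
  have e : (x * x) ^ (m + 1) = x := by
    rw [← pow_two, ← pow_mul, show 2 * (m + 1) = orderOf x + 1 by omega, pow_succ,
      pow_orderOf_eq_one, one_mul]
  simpa [e] using h.pow_right (m + 1)

end Odd

variable {G Ω : Type*} [Group G] [MulAction G Ω] {a : Ω} {t : G} {Q : Subgroup G}

/-- The two-point stabiliser of `a` and `t • a`. -/
abbrev twoPt (a : Ω) (t : G) : Subgroup G := stabilizer G a ⊓ stabilizer G (t • a)

theorem mem_twoPt {x : G} : x ∈ twoPt a t ↔ x • a = a ∧ x • (t • a) = t • a := Iff.rfl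

theorem inv_smul_eq_of_fix {x : G} {p : Ω} (h : x • p = p) : x⁻¹ • p = p :=
  inv_smul_eq_iff.mpr h.symm

variable (hS : IsRankOneSetup G Ω a t Q)
include hS

theorem inv_eq : t⁻¹ = t := inv_eq_of_mul_eq_one_right hS.mul_self

theorem tt_mul (x : G) : t * (t * x) = x := by rw [← mul_assoc, hS.mul_self, one_mul]

theorem base_ne : t • a ≠ a := hS.not_mem

theorem t_smul_base : t • (t • a) = a := by rw [smul_smul, hS.mul_self, one_smul]

theorem conj_t_mem {x : G} (hx : x ∈ twoPt a t) : t * x * t ∈ twoPt a t := by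
  obtain ⟨h1, h2⟩ := mem_twoPt.mp hx
  refine mem_twoPt.mpr ⟨?_, ?_⟩
  · rw [mul_smul, mul_smul, h2, t_smul_base hS]
  · rw [mul_smul, mul_smul, t_smul_base hS, h1]

theorem fix_of_mem_Q {q : G} (hq : q ∈ Q) : q • a = a := hS.le hq

theorem pretrans : IsPretransitive G Ω :=
  haveI := hS.two_transitive; isPretransitive_of_is_two_pretransitive

theorem exists_map_pair {p q p' q' : Ω} (h : p ≠ q) (h' : p' ≠ q') :
    ∃ g : G, g • p = p' ∧ g • q = q' :=
  (is_two_pretransitive_iff.mp hS.two_transitive) h h'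

theorem exists_move (p q : Ω) : ∃ g : G, g • p = q :=
  haveI := pretrans hS; exists_smul_eq G p q

theorem finite_set [Finite G] : Finite Ω :=
  Finite.of_surjective (fun g : G => g • a) (fun p => exists_move hS a p)

theorem twoPt_le_normalizer : twoPt a t ≤ Subgroup.normalizer (Q : Set G) := by
  intro d hd
  refine Subgroup.mem_normalizer_iff.mpr fun x => ⟨hS.conj_mem d hd.1 x, fun h => ?_⟩
  have := hS.conj_mem d⁻¹ (inv_mem hd.1) _ h
  simpa [mul_assoc] using this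

/-- `G_a = Q D`. -/
theorem decomp {g : G} (hg : g • a = a) : ∃ q ∈ Q, ∃ d ∈ twoPt a t, g = q * d := by
  have h : g ∈ twoPt a t ⊔ Q := by
    rw [sup_comm]; exact hS.sup_eq.symm ▸ (hg : g ∈ stabilizer G a)
  rw [← SetLike.mem_coe,
    Subgroup.coe_mul_of_left_le_normalizer_right _ Q (twoPt_le_normalizer hS)] at h
  obtain ⟨d, hd, q, hq, rfl⟩ := Set.mem_mul.mp h
  exact ⟨d * q * d⁻¹, hS.conj_mem d hd.1 q hq, d, hd, by group⟩

theorem eq_one_of_fix_base {q : G} (hq : q ∈ Q) (h : q • (t • a) = t • a) : q = 1 := by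
  have : q ∈ Q ⊓ stabilizer G (t • a) := ⟨hq, h⟩
  rwa [hS.inf_eq_bot, Subgroup.mem_bot] at this

theorem eq_one_of_mem_twoPt {q : G} (hq : q ∈ Q) (h : q ∈ twoPt a t) : q = 1 :=
  eq_one_of_fix_base hS hq h.2

theorem exists_q {c : Ω} (hc : c ≠ a) : ∃ q ∈ Q, q • (t • a) = c := by
  obtain ⟨g, h1, h2⟩ := exists_map_pair hS (base_ne hS).symm hc.symm
  obtain ⟨q, hq, d, hd, rfl⟩ := decomp hS h1
  refine ⟨q, hq, ?_⟩
  rw [mul_smul, hd.2] at h2
  exact h2

theorem eq_one_of_fix {q : G} (hq : q ∈ Q) {c : Ω} (hc : c ≠ a) (h : q • c = c) : q = 1 := by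
  obtain ⟨r, hr, rfl⟩ := exists_q hS hc
  have := eq_one_of_fix_base hS (Q.mul_mem (Q.mul_mem (Q.inv_mem hr) hq) hr)
    (by rw [mul_smul, mul_smul, h, inv_smul_smul])
  simpa [mul_assoc] using congrArg (fun y => r * y * r⁻¹) this

theorem q_ext {q q' : G} (hq : q ∈ Q) (hq' : q' ∈ Q) {c : Ω} (hc : c ≠ a) (h : q • c = q' • c) :
    q = q' := by
  have := eq_one_of_fix hS (Q.mul_mem (Q.inv_mem hq') hq) hc (by rw [mul_smul, h, inv_smul_smul])
  exact (inv_mul_eq_one.mp this).symm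

theorem existsUnique_q {b c : Ω} (hb : b ≠ a) (hc : c ≠ a) : ∃! x : Q, (x : G) • b = c := by
  obtain ⟨q, hq, rfl⟩ := exists_q hS hb
  obtain ⟨r, hr, rfl⟩ := exists_q hS hc
  refine ⟨⟨r * q⁻¹, Q.mul_mem hr (Q.inv_mem hq)⟩, by simp [mul_smul], fun y hy => ?_⟩
  exact Subtype.ext (q_ext hS y.2 (Q.mul_mem hr (Q.inv_mem hq)) hb (by simpa [mul_smul] using hy))

theorem qd_inj {q q' d d' : G} (hq : q ∈ Q) (hq' : q' ∈ Q) (hd : d ∈ twoPt a t)
    (hd' : d' ∈ twoPt a t) (h : q * d = q' * d') : q = q' ∧ d = d' := by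
  have e : q'⁻¹ * q = d' * d⁻¹ := by
    rw [eq_mul_inv_iff_mul_eq, mul_assoc, h, inv_mul_cancel_left]
  have h1 := eq_one_of_mem_twoPt hS (Q.mul_mem (Q.inv_mem hq') hq)
    (e ▸ mul_mem hd' (inv_mem hd))
  have h2 := (inv_mul_eq_one.mp h1).symm
  exact ⟨h2, by rw [h2] at h; exact mul_left_cancel h⟩

theorem card_point [Finite G] : Nat.card Ω = Nat.card Q + 1 := by
  haveI := finite_set hS
  have h : Nat.card Q = Nat.card {c : Ω // c ≠ a} := Nat.card_eq_of_bijective
    (fun q => ⟨(q : G) • (t • a), fun h => base_ne hS (by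
      rwa [← eq_inv_smul_iff, inv_smul_eq_of_fix (fix_of_mem_Q hS q.2)] at h)⟩)
    ⟨fun q q' h => Subtype.ext (q_ext hS q.2 q'.2 (base_ne hS) (congrArg Subtype.val h)),
     fun c => by
      obtain ⟨q, hq, h⟩ := exists_q hS c.2
      exact ⟨⟨q, hq⟩, Subtype.ext h⟩⟩
  have := Fintype.ofFinite Ω
  classical
  rw [h, Nat.card_eq_fintype_card, Nat.card_eq_fintype_card, Fintype.card_subtype_compl,
    Fintype.card_subtype_eq]
  have : 0 < Fintype.card Ω := Fintype.card_pos_iff.mpr ⟨a⟩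
  omega

theorem card_stab : Nat.card (stabilizer G a) = Nat.card Q * Nat.card (twoPt a t) := by
  rw [← Nat.card_prod]
  refine (Nat.card_eq_of_bijective
    (fun p : Q × twoPt a t => (⟨p.1 * p.2, mul_mem (hS.le p.1.2) p.2.2.1⟩ : stabilizer G a))
    ⟨fun p p' h => ?_, fun g => ?_⟩).symm
  · obtain ⟨h1, h2⟩ := qd_inj hS p.1.2 p'.1.2 p.2.2 p'.2.2 (congrArg Subtype.val h)
    exact Prod.ext (Subtype.ext h1) (Subtype.ext h2)
  · obtain ⟨q, hq, d, hd, h⟩ := decomp hS (g := g) g.2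
    exact ⟨⟨⟨q, hq⟩, ⟨d, hd⟩⟩, Subtype.ext h.symm⟩

theorem card_group [Finite G] :
    Nat.card G = Nat.card Q * Nat.card (twoPt a t) * (Nat.card Q + 1) := by
  haveI := pretrans hS
  rw [← card_stab hS, ← card_point hS, ← index_stabilizer_of_transitive G a,
    Subgroup.card_mul_index]

/-- An element of `G_a` with a power of order prime to `|D|` in `Q` lies in `Q`. -/
theorem mem_Q_of_pow {g : G} (hg : g • a = a) {n : ℕ}
    (hn : n.Coprime (Nat.card (twoPt a t))) (h : g ^ n ∈ Q) : g ∈ Q := by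
  obtain ⟨q, hq, d, hd, rfl⟩ := decomp hS hg
  have key : ∀ m : ℕ, ∃ r ∈ Q, (q * d) ^ m = r * d ^ m := by
    intro m
    induction m with
    | zero => exact ⟨1, one_mem _, by simp⟩
    | succ m ih =>
      obtain ⟨r, hr, e⟩ := ih
      refine ⟨r * (d ^ m * q * (d ^ m)⁻¹),
        Q.mul_mem hr (hS.conj_mem _ ((stabilizer G a).pow_mem hd.1 m) q hq), ?_⟩
      rw [pow_succ, e, pow_succ]; group
  obtain ⟨r, hr, e⟩ := key n
  have h1 : d ^ n = 1 := eq_one_of_mem_twoPt hS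
    (by have := Q.mul_mem (Q.inv_mem hr) h; rwa [e, inv_mul_cancel_left] at this)
    ((twoPt a t).pow_mem hd n)
  have h2 : orderOf d = 1 := Nat.eq_one_of_dvd_coprimes hn (orderOf_dvd_of_pow_eq_one h1)
    (Subgroup.orderOf_dvd_natCard _ hd)
  rw [orderOf_eq_one_iff.mp h2, mul_one]; exact hq

theorem mem_Q_of_invol {s : G} (hs : s • a = a) (h : s * s = 1) : s ∈ Q :=
  mem_Q_of_pow hS hs (Nat.coprime_two_left.mpr hS.odd_card)
    (by rw [pow_two, h]; exact one_mem Q)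

theorem eq_base_of_invol {s : G} (hs : s • a = a) (h1 : s ≠ 1) (h : s * s = 1) {c : Ω}
    (hc : s • c = c) : c = a := by
  by_contra hca
  exact h1 (eq_one_of_fix hS (mem_Q_of_invol hS hs h) hca hc)

theorem exists_sylow_le [Finite G] : ∃ P : Sylow 2 G, (P : Subgroup G) ≤ Q := by
  haveI : Fact (Nat.Prime 2) := ⟨Nat.prime_two⟩
  obtain ⟨P0⟩ : Nonempty (Sylow 2 Q) := inferInstance
  refine ⟨Sylow.ofCard ((P0 : Subgroup Q).map Q.subtype) ?_, ?_⟩
  · rw [Nat.card_congr ((P0 : Subgroup Q).equivMapOfInjective Q.subtype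
      Q.subtype_injective).symm.toEquiv, P0.card_eq_multiplicity, card_group hS]
    have hQ : Nat.card Q ≠ 0 := Nat.card_pos.ne'
    have hD : Nat.card (twoPt a t) ≠ 0 := Nat.card_pos.ne'
    have hD2 : (Nat.card (twoPt a t)).factorization 2 = 0 :=
      Nat.factorization_eq_zero_of_not_dvd hS.odd_card.not_two_dvd_nat
    have hQ2 : (Nat.card Q + 1).factorization 2 = 0 :=
      Nat.factorization_eq_zero_of_not_dvd (hS.even_card.add_one).not_two_dvd_nat
    rw [Nat.factorization_mul (mul_ne_zero hQ hD) (by omega),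
      Nat.factorization_mul hQ hD, Finsupp.add_apply, Finsupp.add_apply, hD2, hQ2, add_zero,
      add_zero]
  · rw [Sylow.coe_ofCard]
    exact Subgroup.map_subtype_le _

theorem canonical {g : G} (hg : g ∉ stabilizer G a) :
    ∃! p : G × G, p.1 ∈ stabilizer G a ∧ p.2 ∈ Q ∧ g = p.1 * t * p.2 := by
  have hc : g⁻¹ • a ≠ a := fun h => hg (inv_inv g ▸ inv_smul_eq_of_fix (x := g⁻¹) h)
  obtain ⟨q, hq, hqc⟩ := exists_q hS hc
  refine ⟨(g * q * t, q⁻¹), ⟨?_, Q.inv_mem hq, ?_⟩, ?_⟩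
  · show (g * q * t) • a = a
    rw [mul_smul, mul_smul, hqc, smul_inv_smul]
  · show g = g * q * t * t * q⁻¹
    rw [mul_assoc (g * q), hS.mul_self, mul_one, mul_inv_cancel_right]
  · rintro ⟨x, y⟩ ⟨hx, hy, e⟩
    simp only at hx hy e
    have hy' : y⁻¹ = q := by
      refine q_ext hS (Q.inv_mem hy) hq (base_ne hS) ?_
      rw [hqc, eq_inv_smul_iff, e, mul_smul, mul_smul, smul_inv_smul, t_smul_base hS]
      exact hx
    subst hy'
    refine Prod.ext ?_ (inv_inv y).symm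
    show x = g * y⁻¹ * t
    rw [e, mul_inv_cancel_right, mul_assoc, hS.mul_self, mul_one]

/-- Uniqueness of `g h t f`. -/
theorem ghtf_inj {g g' h h' f f' : G} (hg : g ∈ Q) (hg' : g' ∈ Q) (hh : h ∈ twoPt a t)
    (hh' : h' ∈ twoPt a t) (hf : f ∈ Q) (hf' : f' ∈ Q) (e : g * h * t * f = g' * h' * t * f') :
    g = g' ∧ h = h' ∧ f = f' := by
  have hn : g * h * t * f ∉ stabilizer G a := by
    intro hm
    apply base_ne hS
    have e1 : (g * h * t * f) • a = a := hm
    rw [mul_smul, fix_of_mem_Q hS hf, mul_smul] at e1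
    have e2 := mem_stabilizer_iff.mp (mul_mem (hS.le hg) hh.1)
    have := inv_smul_eq_of_fix e2
    rw [← eq_inv_smul_iff] at e1
    rwa [this] at e1
  have := (canonical hS hn).unique (y₁ := (g * h, f)) (y₂ := (g' * h', f'))
    ⟨mul_mem (hS.le hg) hh.1, hf, rfl⟩ ⟨mul_mem (hS.le hg') hh'.1, hf', e⟩
  obtain ⟨h1, h2⟩ := Prod.mk.injEq _ _ _ _ ▸ this
  obtain ⟨h3, h4⟩ := qd_inj hS hg hg' hh hh' h1
  exact ⟨h3, h4, h2⟩

variable [Finite G]

theorem exists_invol_Q : ∃ s : G, s ∈ Q ∧ s ≠ 1 ∧ s * s = 1 := by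
  haveI : Fact (Nat.Prime 2) := ⟨Nat.prime_two⟩
  obtain ⟨s, hs⟩ := exists_prime_orderOf_dvd_card' (G := Q) 2 hS.even_card.two_dvd
  refine ⟨s, s.2, fun h => ?_, ?_⟩
  · rw [OneMemClass.coe_eq_one] at h; simp [h] at hs
  · have := pow_orderOf_eq_one s
    rw [hs, pow_two] at this
    exact congrArg Subtype.val this

theorem exists_conj_mem_Q {x : G} {k : ℕ} (hx : x ^ 2 ^ k = 1) : ∃ g : G, g * x * g⁻¹ ∈ Q := by
  haveI : Fact (Nat.Prime 2) := ⟨Nat.prime_two⟩
  have hp : IsPGroup 2 (Subgroup.zpowers x) := by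
    refine IsPGroup.iff_card.mpr ?_
    rw [Nat.card_zpowers]
    obtain ⟨j, -, hj⟩ := (Nat.dvd_prime_pow Nat.prime_two).mp (orderOf_dvd_of_pow_eq_one hx)
    exact ⟨j, hj⟩
  obtain ⟨P1, hP1⟩ := hp.exists_le_sylow
  obtain ⟨P, hP⟩ := exists_sylow_le hS
  obtain ⟨g, rfl⟩ := exists_smul_eq G P1 P
  refine ⟨g, hP ?_⟩
  rw [Sylow.coe_subgroup_smul, Subgroup.mem_pointwise_smul_iff_inv_smul_mem, ← map_inv,
    MulAut.smul_def, MulAut.conj_apply]
  simpa [mul_assoc] using hP1 (Subgroup.mem_zpowers x)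

theorem fix_unique {u : G} (h1 : u ≠ 1) (h2 : u * u = 1) :
    ∃! c : Ω, u • c = c := by
  obtain ⟨g, hg⟩ := exists_conj_mem_Q hS (k := 1) (by rw [pow_one, pow_two, h2])
  refine ⟨g⁻¹ • a, ?_, fun c hc => ?_⟩
  · have := fix_of_mem_Q hS hg
    rw [mul_smul, mul_smul, ← eq_inv_smul_iff] at this
    exact this
  · rw [eq_inv_smul_iff]
    by_contra hne
    refine h1 ?_
    have := eq_one_of_fix hS hg hne (by rw [mul_smul, mul_smul, inv_smul_smul, hc])
    exact conj_eq_one_iff.mp this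

/-- The fixed point of an involution. -/
theorem fix_eq {u : G} (h1 : u ≠ 1) (h2 : u * u = 1) {p q : Ω} (hp : u • p = p) (hq : u • q = q) :
    p = q := (fix_unique hS h1 h2).unique hp hq

theorem odd_orderOf_of_fix_two {z : G} {p q : Ω} (hpq : p ≠ q) (hp : z • p = p) (hq : z • q = q) :
    Odd (orderOf z) := by
  rw [← Nat.not_even_iff_odd]
  rintro ⟨m, hm⟩
  have hm0 : 0 < m := by have := orderOf_pos z; omega
  refine hpq (fix_eq hS (u := z ^ m) (pow_ne_one_of_lt_orderOf hm0.ne' (by omega)) ?_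
    (smul_pow_eq_of_fix hp m) (smul_pow_eq_of_fix hq m))
  rw [← pow_add, ← hm, pow_orderOf_eq_one]
where
  smul_pow_eq_of_fix {z : G} {p : Ω} (h : z • p = p) (m : ℕ) : z ^ m • p = p := by
    induction m with
    | zero => simp
    | succ m ih => rw [pow_succ, mul_smul, h, ih]

theorem odd_orderOf_mul {s u : G} (hs1 : s ≠ 1) (hs : s * s = 1) (hu1 : u ≠ 1) (hu : u * u = 1)
    {p : Ω} (hsp : s • p = p) (hup : u • p ≠ p) : Odd (orderOf (s * u)) := by
  rw [← Nat.not_even_iff_odd]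
  rintro ⟨m, hm⟩
  obtain ⟨q, hq, -⟩ := fix_unique hS hu1 hu
  have hm0 : 0 < m := by have := orderOf_pos (s * u); omega
  set z := (s * u) ^ m with hz
  have hz1 : z ≠ 1 := pow_ne_one_of_lt_orderOf hm0.ne' (by omega)
  have hzz : z * z = 1 := by rw [hz, ← pow_add, ← hm, pow_orderOf_eq_one]
  have hsi : s⁻¹ = s := inv_eq_of_mul_eq_one_right hs
  have hui : u⁻¹ = u := inv_eq_of_mul_eq_one_right hu
  have hzi : z⁻¹ = z := inv_eq_of_mul_eq_one_right hzz
  have hsz : s * z * s⁻¹ = z := by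
    conv_rhs => rw [← hzi, hz, ← inv_pow, mul_inv_rev, hsi, hui]
    rw [hz, ← conj_pow, hsi, ← mul_assoc s s u, hs, one_mul]
  have huz : u * z * u⁻¹ = z := by
    conv_rhs => rw [← hzi, hz, ← inv_pow, mul_inv_rev, hsi, hui]
    rw [hz, ← conj_pow, hui, mul_assoc u (s * u), mul_assoc s u, hu, mul_one]
  have fix : ∀ {w : G} {r : Ω}, w ≠ 1 → w * w = 1 → w * z * w⁻¹ = z → w • r = r → z • r = r := by
    intro w r hw1 hw hwz hr
    refine fix_eq hS hw1 hw ?_ hr
    rw [smul_smul, show w * z = z * w from mul_inv_eq_iff_eq_mul.mp hwz, mul_smul, hr]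
  exact hup (by
    have := fix_eq hS hz1 hzz (fix hs1 hs hsz hsp) (fix hu1 hu huz hq)
    rw [this, hq])

theorem conj_of_fix_ne {s u : G} (hs1 : s ≠ 1) (hs : s * s = 1) (hu1 : u ≠ 1) (hu : u * u = 1)
    {p : Ω} (hsp : s • p = p) (hup : u • p ≠ p) : ∃ g : G, g * s * g⁻¹ = u := by
  obtain ⟨m, hm⟩ := odd_orderOf_mul hS hs1 hs hu1 hu hsp hup
  have hsi : s⁻¹ = s := inv_eq_of_mul_eq_one_right hs
  have hui : u⁻¹ = u := inv_eq_of_mul_eq_one_right hu
  refine ⟨(s * u) ^ m, ?_⟩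
  have h1 : s * (s * u) * s⁻¹ = (s * u)⁻¹ := by
    rw [mul_inv_rev, hui, hsi, ← mul_assoc s s u, hs, one_mul]
  have h2 : s * ((s * u) ^ m)⁻¹ = (s * u) ^ m * s := by
    have := conj_pow (a := s) (b := (s * u)) (i := m)
    rw [h1, inv_pow] at this
    rw [this]
    simp only [hsi, mul_assoc]
    rw [← mul_assoc s s, hs, one_mul]
  have h3 : (s * u) ^ m * (s * u) ^ m = (s * u)⁻¹ := by
    rw [← mul_eq_one_iff_eq_inv, ← pow_add, ← pow_succ,
      show m + m + 1 = orderOf (s * u) by omega, pow_orderOf_eq_one]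
  rw [mul_assoc, h2, ← mul_assoc, h3, mul_inv_rev, hui, hsi, mul_assoc, hs, mul_one]

theorem invol_conj {u v : G} (hu1 : u ≠ 1) (hu : u * u = 1) (hv1 : v ≠ 1) (hv : v * v = 1) :
    ∃ g : G, g * u * g⁻¹ = v := by
  obtain ⟨p, hp, hpu⟩ := fix_unique hS hu1 hu
  obtain ⟨q, hq, -⟩ := fix_unique hS hv1 hv
  rcases ne_or_eq p q with h | rfl
  · exact conj_of_fix_ne hS hu1 hu hv1 hv hp fun hvp => h (fix_eq hS hv1 hv hvp hq)
  · obtain ⟨r, hr⟩ : ∃ r : Ω, r ≠ p := by
      by_cases h : a = p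
      · exact ⟨t • a, h ▸ base_ne hS⟩
      · exact ⟨a, h⟩
    obtain ⟨g, hg⟩ := exists_move hS p r
    have hw1 : g * u * g⁻¹ ≠ 1 := fun h => hu1 (conj_eq_one_iff.mp h)
    have hw : g * u * g⁻¹ * (g * u * g⁻¹) = 1 := by
      simp only [mul_assoc, inv_mul_cancel_left]
      rw [← mul_assoc u u, hu, one_mul, mul_inv_cancel]
    have hwr : (g * u * g⁻¹) • r = r := by
      rw [mul_smul, mul_smul, inv_smul_eq_iff.mpr hg.symm, hp, hg]
    obtain ⟨h', h''⟩ := conj_of_fix_ne hS hw1 hw hv1 hv hwr fun hvr => hr (fix_eq hS hv1 hv hvr hq)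
    exact ⟨h' * g, by rw [← h'']; group⟩

/-- A subset of `Q` containing a nontrivial element is normalised only inside `G_a`. -/
theorem normalizer_le {X : Set G} (hX : X ⊆ (Q : Set G)) (h : ∃ x ∈ X, x ≠ 1) :
    Subgroup.normalizer X ≤ stabilizer G a := by
  intro g hg
  obtain ⟨x, hx, hx1⟩ := h
  have hy : g * x * g⁻¹ ∈ Q := hX ((Subgroup.mem_set_normalizer_iff.mp hg x).mp hx)
  by_contra hne
  refine hx1 (conj_eq_one_iff.mp (eq_one_of_fix hS hy (c := g • a) hne ?_))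
  rw [mul_smul, mul_smul, inv_smul_smul, fix_of_mem_Q hS (hX hx)]

end Cfsg.Agent.Lib.RankOne
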